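import Cfsg.Agent.H59.HNMult.Section
import Cfsg.Prelude.Def_KGroupFacts

/-!
The multiplier of the presented Harada–Norton group is trivial, given that the group is finite.
-/

set_option autoImplicit false

open scoped commutatorElement

namespace Cfsg.Agent.H59.HNMult

open Cfsg.Agent.H67.HN

theorem rels_t : hn .t ^ 5 = 1 ∧ ((hn .x)⁻¹ * hn .t * hn .x) * hn .t ^ 2 = 1 ∧
    (hn .t)⁻¹ * (hn .y)⁻¹ * hn .t * hn .y = 1 ∧ (hn .z * hn .t) ^ 3 = 1 := by
  have h : ∀ r ∈ Spor.HN.extra, PresentedGroup.mk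
      (Spor.coxRelators Spor.HN.edges ∪ {r | r ∈ Spor.HN.extra}) r = 1 :=
    fun r hr => PresentedGroup.one_of_mem (Or.inr hr)
  simp only [Spor.HN.extra, List.mem_cons, List.not_mem_nil, or_false, forall_eq_or_imp,
    forall_eq, map_mul, map_pow, map_inv] at h
  obtain ⟨-, -, -, -, -, -, -, -, -, -, h1, h2, h3, h4⟩ := h
  exact ⟨h1, h2, h3, h4⟩

section Algebra

variable {G : Type*} [Group G]

theorem conj_central {a c : G} (hc : ∀ g, g * c = c * g) (u : G) :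
    u * (a * c) * u⁻¹ = u * a * u⁻¹ * c := by
  rw [← mul_assoc u a c, mul_assoc (u * a) c u⁻¹, ← hc u⁻¹, ← mul_assoc]

theorem mul_pow_central {a c : G} (hc : ∀ g, g * c = c * g) (n : ℕ) :
    (a * c) ^ n = a ^ n * c ^ n := (show Commute a c from hc a).mul_pow n

/-- Normalising the lift of the element of order five. -/
theorem exists_lift_five {X T : G}
    (h5 : ∀ g, g * T ^ 5 = T ^ 5 * g) (hd : ∀ g, g * (X⁻¹ * T * X * T ^ 2) = X⁻¹ * T * X * T ^ 2 * g) :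
    ∃ e : G, (∀ g, g * e = e * g) ∧ (T * e⁻¹) ^ 5 = 1 ∧
      X⁻¹ * (T * e⁻¹) * X * (T * e⁻¹) ^ 2 = 1 ∧ e = (T ^ 5) ^ 2 * ((X⁻¹ * T * X * T ^ 2) ^ 3)⁻¹ := by
  set g := T ^ 5 with hg
  set d := X⁻¹ * T * X * T ^ 2 with hd'
  clear_value g d
  have cd : Commute g d := (h5 d).symm
  have key : g ^ 3 = d ^ 5 := by
    have h1 : X⁻¹ * T * X = d * (T ^ 2)⁻¹ := by rw [hd', mul_inv_cancel_right]
    have h2 : (X⁻¹ * T * X) ^ 5 = g := by
      have := conj_pow (a := X⁻¹) (b := T) (i := 5)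
      rw [inv_inv] at this
      rw [this, mul_assoc, ← hg, ← h5 X, inv_mul_cancel_left]
    rw [h1, (show Commute d (T ^ 2)⁻¹ from (hd _).symm).mul_pow, inv_pow, ← pow_mul,
      mul_comm 2 5, pow_mul, ← hg, mul_inv_eq_iff_eq_mul] at h2
    rw [h2, pow_succ' g 2]
  have ce : ∀ u, Commute u (g ^ 2 * (d ^ 3)⁻¹) := fun u =>
    ((show Commute u g from h5 u).pow_right 2).mul_right
      ((show Commute u d from hd u).pow_right 3).inv_right
  have hce : ∀ u, u * (g ^ 2 * (d ^ 3)⁻¹)⁻¹ = (g ^ 2 * (d ^ 3)⁻¹)⁻¹ * u := fun u =>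
    (ce u).inv_right.eq
  have ke : ∀ n, (g ^ 2 * (d ^ 3)⁻¹) ^ n = g ^ (2 * n) * (d ^ (3 * n))⁻¹ := fun n => by
    rw [(cd.pow_pow 2 3).inv_right.mul_pow, inv_pow, ← pow_mul, ← pow_mul]
  have e5 : (g ^ 2 * (d ^ 3)⁻¹) ^ 5 = g := by
    rw [ke, show d ^ (3 * 5) = (d ^ 5) ^ 3 by rw [← pow_mul], ← key, ← pow_mul,
      mul_inv_eq_iff_eq_mul, ← pow_succ']
  have e3 : (g ^ 2 * (d ^ 3)⁻¹) ^ 3 = d := by
    rw [ke, show g ^ (2 * 3) = (g ^ 3) ^ 2 by rw [← pow_mul], key, ← pow_mul,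
      mul_inv_eq_iff_eq_mul, ← pow_succ']
  refine ⟨g ^ 2 * (d ^ 3)⁻¹, fun u => (ce u).eq, ?_, ?_, rfl⟩
  · rw [mul_pow_central hce, inv_pow, e5, ← hg, mul_inv_cancel]
  · have h1 := conj_central (a := T) hce X⁻¹
    rw [inv_inv] at h1
    rw [h1, mul_pow_central hce, ← mul_assoc, mul_assoc _ (g ^ 2 * (d ^ 3)⁻¹)⁻¹ (T ^ 2), ← hce,
      ← mul_assoc, ← hd', mul_assoc, ← pow_succ', inv_pow, e3, mul_inv_cancel]

/-- Two commuting elements of coprime orders lift to commuting elements. -/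
theorem commute_lift {Y T : G} (hm : ∀ g, g * (T⁻¹ * Y⁻¹ * T * Y) = T⁻¹ * Y⁻¹ * T * Y * g)
    (hT : T ^ 5 = 1) (hY : Y ^ 6 = 1) : T⁻¹ * Y⁻¹ * T * Y = 1 := by
  set m := T⁻¹ * Y⁻¹ * T * Y with hm'
  have h5 : m ^ 5 = 1 := by
    have h1 : Y⁻¹ * T * Y = T * m := by rw [hm']; group
    have h2 := conj_pow (a := Y⁻¹) (b := T) (i := 5)
    rw [inv_inv, h1, mul_pow_central hm, hT, one_mul, mul_one, inv_mul_cancel] at h2
    exact h2
  have h6 : m ^ 6 = 1 := by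
    have h1 : T⁻¹ * Y⁻¹ * T = Y⁻¹ * m := by
      rw [hm Y⁻¹, hm']; group
    have h2 := conj_pow (a := T⁻¹) (b := Y⁻¹) (i := 6)
    rw [inv_inv, h1, mul_pow_central hm, inv_pow, hY, inv_one, one_mul, mul_one, inv_mul_cancel] at h2
    exact h2
  calc m = m ^ 6 * (m ^ 5)⁻¹ := by rw [pow_succ' m 5, mul_inv_cancel_right]
    _ = 1 := by rw [h5, h6, inv_one, one_mul]

/-- The cube of the product of the lifts can be normalised. -/
theorem cube_lift {X Z T : G} (hu : ∀ g, g * Z ^ 2 = Z ^ 2 * g)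
    (hf : ∀ g, g * (Z * T) ^ 3 = (Z * T) ^ 3 * g) (hT : T ^ 5 = 1)
    (hd : X⁻¹ * T * X * T ^ 2 = 1) (hZ : Commute Z (X ^ 2)) :
    (Z * ((Z * T) ^ 3 * (Z ^ 2)⁻¹)⁻¹) ^ 2 = 1 ∧
      (Z * ((Z * T) ^ 3 * (Z ^ 2)⁻¹)⁻¹ * T) ^ 3 = 1 := by
  set u := Z ^ 2 with hu'
  set f := (Z * T) ^ 3 with hf'
  have h1 : X⁻¹ * T * X = (T ^ 2)⁻¹ := eq_inv_of_mul_eq_one_left hd
  have h2 : (X ^ 2)⁻¹ * T * X ^ 2 = T⁻¹ := by
    calc (X ^ 2)⁻¹ * T * X ^ 2 = X⁻¹ * (X⁻¹ * T * X) * X := by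
          rw [pow_two, mul_inv_rev]; simp [mul_assoc]
      _ = X⁻¹ * (T ^ 2)⁻¹ * X := by rw [h1]
      _ = ((X⁻¹ * T * X) * (X⁻¹ * T * X))⁻¹ := by group
      _ = T ^ 5 * T⁻¹ := by rw [h1]; group
      _ = T⁻¹ := by rw [hT, one_mul]
  have h3 : (Z * T⁻¹) ^ 3 = f := by
    have h4 := conj_pow (a := (X ^ 2)⁻¹) (b := Z * T) (i := 3)
    rw [inv_inv, show (X ^ 2)⁻¹ * (Z * T) * X ^ 2 = (X ^ 2)⁻¹ * Z * X ^ 2 * ((X ^ 2)⁻¹ * T * X ^ 2) by
      group, h2, mul_assoc _ Z, hZ.eq, inv_mul_cancel_left] at h4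
    rw [h4, ← hf', hf (X ^ 2)⁻¹, inv_mul_cancel_right]
  have hTZ : (T * Z) ^ 3 = f := by
    have h4 := conj_pow (a := Z⁻¹) (b := Z * T) (i := 3)
    rw [inv_inv, show Z⁻¹ * (Z * T) * Z = T * Z by group] at h4
    rw [h4, ← hf', hf Z⁻¹, inv_mul_cancel_right]
  have hff : f ^ 2 = u ^ 3 := by
    have h5 : T * Z⁻¹ = T * Z * u⁻¹ := by rw [hu', pow_two, mul_inv_rev]; simp [mul_assoc]
    have h6 : (T * Z⁻¹) ^ 3 = f⁻¹ := by
      rw [← h3, ← inv_pow, mul_inv_rev, inv_inv]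
    rw [h5, mul_pow_central (fun g => ((show Commute g u from hu g).inv_right).eq), hTZ, inv_pow] at h6
    calc f ^ 2 = f * (f * (u ^ 3)⁻¹) * u ^ 3 := by rw [pow_two]; simp [mul_assoc]
      _ = u ^ 3 := by rw [h6, mul_inv_cancel, one_mul]
  have cfu : Commute f u⁻¹ := (show Commute f u from hu f).inv_right
  set γ := f * u⁻¹ with hγ
  have hγc : ∀ g, g * γ⁻¹ = γ⁻¹ * g := fun g =>
    ((show Commute g f from hf g).mul_right (show Commute g u from hu g).inv_right).inv_right.eq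
  have g2 : γ ^ 2 = u := by
    rw [hγ, cfu.mul_pow, hff]; group
  have g3 : γ ^ 3 = f := by
    rw [pow_succ, g2, hγ, ← mul_assoc, ← hu f, mul_inv_cancel_right]
  constructor
  · rw [mul_pow_central hγc, inv_pow, g2, mul_inv_eq_one]
  · rw [mul_assoc Z γ⁻¹ T, ← hγc T, ← mul_assoc, mul_pow_central hγc, ← hf', inv_pow, g3,
      mul_inv_cancel]

end Algebra

/-- A stem extension of HN is trivial. -/
theorem ker_eq_bot {Γ : Type} [Group Γ] [Finite Γ] (σ : Γ →* Spor.HN) (hσ : IsStemExtension σ) :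
    σ.ker = ⊥ := by
  obtain ⟨hsurj, hc, hcomm⟩ := hσ
  obtain ⟨s, hs⟩ := exists_section σ hsurj hc
  have cen : ∀ {k : Γ}, σ k = 1 → ∀ g, g * k = k * g := fun hk g =>
    Subgroup.mem_center_iff.mp (hc hk) g
  let x' : D := ⟨gx, gxy_mem.1⟩
  let y' : D := ⟨gy, gxy_mem.2⟩
  have hnx : nu (x' : F) = hn .x := lift_gx rels_HN
  have hny : nu (y' : F) = hn .y := lift_gy rels_HN
  have hnz : nu gz = hn .z := lift_gz rels_HN
  set X := s x' with hX
  set Y := s y' with hY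
  have sX : σ X = hn .x := (hs x').trans hnx
  have sY : σ Y = hn .y := (hs y').trans hny
  obtain ⟨Z, hZ⟩ := hsurj (hn .z)
  obtain ⟨T, hT⟩ := hsurj (hn .t)
  obtain ⟨r5, rd, rm, rf⟩ := rels_t
  obtain ⟨e, he, eT, ed, he'⟩ := exists_lift_five (X := X) (T := T)
    (cen (by rw [map_pow, hT, r5]))
    (cen (by simp only [map_mul, map_pow, map_inv, sX, hT, rd]))
  set T' := T * e⁻¹ with hT'
  have se : σ e = 1 := by
    simp only [he', map_mul, map_inv, map_pow, sX, hT, r5, rd, one_pow, inv_one, mul_one]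
  have sT : σ T' = hn .t := by rw [hT', map_mul, map_inv, se, inv_one, mul_one, hT]
  have hnorm : ∀ d : D, gz * (d : F) * gz⁻¹ ∈ D := fun d =>
    (inferInstance : (commutator F).Normal).conj_mem _ d.2 _
  have hequiv : ∀ d : D, Z * s d * Z⁻¹ = s ⟨gz * (d : F) * gz⁻¹, hnorm d⟩ := by
    intro d
    let φ : D →* D := MonoidHom.mk' (fun d => ⟨gz * (d : F) * gz⁻¹, hnorm d⟩) fun a b => by
      ext; simp [mul_assoc]
    have h := eq_of_perfect perfect_D ((MulAut.conj Z).toMonoidHom.comp s) (s.comp φ) fun p => by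
      refine hc (MonoidHom.mem_ker.mpr ?_)
      simp [hs, φ, hZ, hnz]
    exact DFunLike.congr_fun h d
  have hy6 : Y ^ 6 = 1 := by
    rw [hY, ← map_pow, show y' ^ 6 = 1 from Subtype.ext (by simpa [y'] using rels_F.y6), map_one]
  have em := commute_lift (Y := Y) (T := T')
    (cen (by simp only [map_mul, map_inv, sY, sT, rm])) eT hy6
  have hZX : Commute Z (X ^ 2) := by
    have h1 := hequiv (x' ^ 2)
    rw [show (⟨gz * ((x' ^ 2 : D) : F) * gz⁻¹, hnorm _⟩ : D) = x' ^ 2 from Subtype.ext (by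
      show gz * gx ^ 2 * gz⁻¹ = gx ^ 2
      rw [Subgroup.mem_center_iff.mp x2_central gz, mul_inv_cancel_right]),
      map_pow] at h1
    exact mul_inv_eq_iff_eq_mul.mp h1
  obtain ⟨z2, zt⟩ := cube_lift (X := X) (Z := Z) (T := T') (cen (by
      rw [map_pow, hZ]; exact rels_HN.z2))
    (cen (by rw [map_pow, map_mul, hZ, sT, rf])) eT ed hZX
  set γ := (Z * T') ^ 3 * (Z ^ 2)⁻¹ with hγ
  clear_value γ
  set Z' := Z * γ⁻¹ with hZ'
  have sγ : σ γ = 1 := by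
    rw [hγ, map_mul, map_inv, map_pow, map_pow, map_mul, hZ, sT, rf, rels_HN.z2, inv_one, mul_one]
  have sZ : σ Z' = hn .z := by rw [hZ', map_mul, map_inv, sγ, inv_one, mul_one, hZ]
  have hZi : Z'⁻¹ = Z' := inv_eq_of_mul_eq_one_right (by rw [← pow_two]; exact z2)
  have hmid : ∀ d : D, Z' * s d * Z' = s ⟨gz * (d : F) * gz⁻¹, hnorm d⟩ := by
    intro d
    rw [← hequiv d]
    conv_lhs => enter [2]; rw [← hZi]
    have hg : ∀ g, g * γ⁻¹ = γ⁻¹ * g := fun g =>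
      ((show Commute g γ from cen sγ g).inv_right).eq
    rw [hZ', mul_inv_rev, inv_inv]
    calc Z * γ⁻¹ * s d * (γ * Z⁻¹) = Z * (γ⁻¹ * s d) * γ * Z⁻¹ := by group
      _ = Z * s d * Z⁻¹ := by rw [← hg]; group
  have hgi : gz⁻¹ = gz := inv_eq_of_mul_eq_one_right (by rw [← pow_two]; exact rels_F.z2)
  have hR : Rels X Y Z' := by
    have one : ∀ d : D, (d : F) = 1 → s d = 1 := fun d hd => by
      rw [show d = 1 from Subtype.ext hd, map_one]
    refine ⟨hy6, ?_, ?_, ?_, ?_, ?_, z2, ?_, ?_, ?_⟩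
    · have := one (x' ^ 2 * y' * x' ^ 2 * y'⁻¹) (by simpa [x', y'] using rels_F.xy)
      simpa [map_mul, map_pow, map_inv] using this
    · have := one ((x'⁻¹ * y'⁻¹ * x' * y') ^ 3) (by simpa [x', y'] using rels_F.comm)
      simpa [map_mul, map_pow, map_inv] using this
    · have := one ((x'⁻¹ * y' ^ 2 * x' * y' ^ 3) ^ 3) (by simpa [x', y'] using rels_F.d)
      simpa [map_mul, map_pow, map_inv] using this
    · have := one ((x' * y') ^ 8) (by simpa [x', y'] using rels_F.xy8)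
      simpa [map_mul, map_pow, map_inv] using this
    · have := one ((x' * y' * x' * y' ^ 3) ^ 4) (by simpa [x', y'] using rels_F.e)
      simpa [map_mul, map_pow, map_inv] using this
    · rw [pow_two, ← mul_assoc, hX, hmid, ← map_mul]
      refine one _ ?_
      show gz * gx * gz⁻¹ * gx = 1
      rw [hgi, mul_assoc, ← pow_two]
      exact rels_F.zx
    · let w' : D := y' * x' * y' * x' * y' ^ 2 * x' * y'⁻¹
      have hw : s w' = Y * X * Y * X * Y ^ 2 * X * Y⁻¹ := by simp [w', hX, hY]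
      rw [← hw, hZi, ← map_inv, hmid, hX, ← map_pow, ← map_inv, ← map_mul, ← map_mul]
      refine one _ ?_
      show gz * (w' : F)⁻¹ * gz⁻¹ * (w' : F) * (gx ^ 2)⁻¹ = 1
      have h := rels_F.i
      rw [hgi] at h ⊢
      simpa [w', x', y'] using h
    · let s' : D := y' ^ 3 * x' * y' * x' * y'
      have hs' : s s' = Y ^ 3 * X * Y * X * Y := by simp [s', hX, hY]
      let b : D := s' * x' * s'⁻¹
      rw [← hs']
      have key : Z' * ((s s')⁻¹ * Z' * s s' * X) ^ 3 =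
          s ⟨gz * ((s'⁻¹ : D) : F) * gz⁻¹, hnorm _⟩ * s b * s ⟨gz * (b : F) * gz⁻¹, hnorm _⟩ *
            s (s' * x') := by
        have hb : s b = s s' * X * (s s')⁻¹ := by simp only [b, map_mul, map_inv, hX]
        rw [← hmid, ← hmid, map_inv, map_mul s s' x', hb, ← hX]
        simp only [pow_succ, pow_zero, one_mul]
        group
      rw [key, ← map_mul, ← map_mul, ← map_mul]
      refine one _ ?_
      show gz * ((s' : F))⁻¹ * gz⁻¹ * (b : F) * (gz * (b : F) * gz⁻¹) * ((s' * x' : D) : F) = 1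
      have h := rels_F.j
      rw [hgi]
      refine Eq.trans ?_ h
      simp [b, s', x', y', pow_succ, mul_assoc]
  let F' : Spor.HN.Gen → Γ := fun
    | .x => X
    | .y => Y
    | .z => Z'
    | .t => T'
  have hrel : ∀ r ∈ Spor.coxRelators Spor.HN.edges ∪ {r | r ∈ Spor.HN.extra},
      FreeGroup.lift F' r = 1 := by
    rintro r (⟨a, ha, -⟩ | hr)
    · simp [Spor.coxNodes, Spor.HN.edges] at ha
    · simp only [Spor.HN.extra, Set.mem_ofPred_eq, List.mem_cons, List.not_mem_nil, or_false] at hr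
      rcases hr with rfl | rfl | rfl | rfl | rfl | rfl | rfl | rfl | rfl | rfl | rfl | rfl | rfl |
        rfl <;>
        simp only [map_mul, map_pow, map_inv, FreeGroup.lift_apply_of, F']
      exacts [hR.y6, hR.xy, hR.comm, hR.d, hR.xy8, hR.e, hR.z2, hR.zx, hR.i, hR.j, eT, ed, em, zt]
  let θ : Spor.HN →* Γ := PresentedGroup.toGroup hrel
  have hθ : σ.comp θ = MonoidHom.id Spor.HN := PresentedGroup.ext fun a => by
    show σ (θ (PresentedGroup.of a)) = PresentedGroup.of a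
    rw [PresentedGroup.toGroup.of]
    cases a
    exacts [sX, sY, sZ, sT]
  have hsec : ∀ g, σ (θ g) = g := DFunLike.congr_fun hθ
  have hsplit : ∀ g : Γ, ∃ h, ∃ k ∈ Subgroup.center Γ, g = θ h * k := fun g =>
    ⟨σ g, (θ (σ g))⁻¹ * g, hc (by rw [MonoidHom.mem_ker, map_mul, map_inv, hsec, inv_mul_cancel]),
      by rw [mul_inv_cancel_left]⟩
  have hle : commutator Γ ≤ θ.range := by
    rw [commutator_def, Subgroup.commutator_le]
    intro a _ b _
    obtain ⟨a₁, k, hk, rfl⟩ := hsplit a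
    obtain ⟨b₁, l, hl, rfl⟩ := hsplit b
    refine ⟨⁅a₁, b₁⁆, ?_⟩
    rw [map_commutatorElement]
    have hk' := Subgroup.mem_center_iff.mp hk
    have hl' := Subgroup.mem_center_iff.mp hl
    symm
    calc ⁅θ a₁ * k, θ b₁ * l⁆ = θ a₁ * (k * (θ b₁ * l)) * k⁻¹ * (θ a₁)⁻¹ * l⁻¹ * (θ b₁)⁻¹ := by
          simp only [commutatorElement_def]; group
      _ = θ a₁ * θ b₁ * (l * (θ a₁)⁻¹) * l⁻¹ * (θ b₁)⁻¹ := by rw [← hk' (θ b₁ * l)]; group
      _ = ⁅θ a₁, θ b₁⁆ := by rw [← hl' (θ a₁)⁻¹]; simp only [commutatorElement_def]; group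
  rw [eq_bot_iff]
  intro k hk
  obtain ⟨h, rfl⟩ := hle (hcomm hk)
  rw [Subgroup.mem_bot, ← hsec h, MonoidHom.mem_ker.mp hk, map_one]

/-- The multiplier is trivial. -/
theorem hasMultiplier [Finite Spor.HN] : HasCyclicSchurMultiplier Spor.HN 1 := by
  constructor
  · have hid : (MonoidHom.id Spor.HN).ker = ⊥ :=
      (MonoidHom.ker_eq_bot_iff _).mpr Function.injective_id
    refine ⟨Spor.HN, inferInstance, inferInstance, MonoidHom.id _,
      ⟨Function.surjective_id, hid ▸ bot_le, hid ▸ bot_le⟩, ?_⟩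
    have : Subsingleton ((MonoidHom.id Spor.HN).ker) := by rw [hid]; infer_instance
    have := uniqueOfSubsingleton (1 : (MonoidHom.id Spor.HN).ker)
    exact ⟨MulEquiv.ofUnique⟩
  · intro Γ _ _ σ hσ
    refine ⟨1, fun k => ⟨1, Subtype.ext ?_⟩⟩
    exact ((Subgroup.eq_bot_iff_forall _).mp (ker_eq_bot σ hσ) _ k.2).symm

end Cfsg.Agent.H59.HNMult
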