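import Cfsg.Agent.H67.HN.Main

/-!
The derived subgroup `2.HS` of the group on `x, y, z` lifts to every finite central extension of HN.
-/

set_option autoImplicit false

open scoped commutatorElement

namespace Cfsg.Agent.H59.HNMult

open Cfsg.Agent.H67.HN

/-- Two maps out of a perfect group that differ by central elements are equal. -/
theorem eq_of_perfect {P G : Type*} [Group P] [Group G] (hP : commutator P = ⊤) (f g : P →* G)
    (h : ∀ p, f p * (g p)⁻¹ ∈ Subgroup.center G) : f = g := by
  let d : P →* Subgroup.center G :=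
    MonoidHom.mk' (fun p => ⟨f p * (g p)⁻¹, h p⟩) fun a b => Subtype.ext (by
      have hb := Subgroup.mem_center_iff.mp (h b)
      show f (a * b) * (g (a * b))⁻¹ = f a * (g a)⁻¹ * (f b * (g b)⁻¹)
      rw [map_mul, map_mul, mul_assoc (f a) (g a)⁻¹, hb (g a)⁻¹]
      simp [mul_assoc])
  have hd : commutator P ≤ d.ker := by
    rw [commutator_def, Subgroup.commutator_le]
    intro a _ b _
    rw [MonoidHom.mem_ker, map_commutatorElement, commutatorElement_eq_one_iff_mul_comm]
    exact Subtype.ext (Subgroup.mem_center_iff.mp (d b).2 _)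
  refine MonoidHom.ext fun p => ?_
  have := hd (hP ▸ Subgroup.mem_top p)
  exact mul_inv_eq_one.mp (congrArg Subtype.val (MonoidHom.mem_ker.mp this))

/-- The derived subgroup of the group on `x, y, z` lifts along a central extension. -/
theorem exists_section {Γ : Type} [Group Γ] [Finite Γ] (σ : Γ →* Spor.HN)
    (hsurj : Function.Surjective σ) (hc : σ.ker ≤ Subgroup.center Γ) :
    ∃ s : D →* Γ, ∀ d : D, σ (s d) = nu d := by
  let Δ : Subgroup (Γ × D) :=
    MonoidHom.eqLocus (σ.comp (MonoidHom.fst Γ D)) ((nu.comp D.subtype).comp (MonoidHom.snd Γ D))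
  let p : Δ →* D := (MonoidHom.snd Γ D).comp Δ.subtype
  have hp : Function.Surjective p := fun d => by
    obtain ⟨γ, hγ⟩ := hsurj (nu d)
    exact ⟨⟨(γ, d), hγ⟩, rfl⟩
  have hpk : p.ker ≤ Subgroup.center Δ := by
    intro k hk
    have hk2 : k.1.2 = 1 := hk
    have hk1 : k.1.1 ∈ σ.ker := by
      have e : σ k.1.1 = nu (k.1.2 : F) := k.2
      rw [MonoidHom.mem_ker, e, hk2, Subgroup.coe_one, map_one]
    rw [Subgroup.mem_center_iff]
    intro g
    refine Subtype.ext (Prod.ext (Subgroup.mem_center_iff.mp (hc hk1) g.1.1) ?_)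
    show g.1.2 * k.1.2 = k.1.2 * g.1.2
    rw [hk2, mul_one, one_mul]
  let C : Subgroup Δ := commutator Δ
  have hmap : C.map p = ⊤ := by
    show (commutator Δ).map p = ⊤
    rw [commutator_def, Subgroup.map_commutator, Subgroup.map_top_of_surjective p hp,
      ← commutator_def, perfect_D]
  have hperf : commutator C = ⊤ := by
    apply Subgroup.map_injective C.subtype_injective
    rw [map_commutator_eq, ← MonoidHom.range_eq_map, Subgroup.range_subtype]
    refine le_antisymm (Subgroup.commutator_le_right C C) ?_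
    show commutator Δ ≤ _
    rw [commutator_def, Subgroup.commutator_le]
    intro a _ b _
    have split : ∀ a : Δ, ∃ c ∈ C, ∃ k ∈ Subgroup.center Δ, a = c * k := by
      intro a
      obtain ⟨c, hc', hce⟩ := Subgroup.mem_map.mp (hmap ▸ Subgroup.mem_top (p a))
      refine ⟨c, hc', c⁻¹ * a, hpk ?_, by rw [mul_inv_cancel_left]⟩
      rw [MonoidHom.mem_ker, map_mul, map_inv, hce, inv_mul_cancel]
    obtain ⟨a₁, ha, k, hk, rfl⟩ := split a
    obtain ⟨b₁, hb, l, hl, rfl⟩ := split b
    have hk' := Subgroup.mem_center_iff.mp hk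
    have hl' := Subgroup.mem_center_iff.mp hl
    have e : ⁅a₁ * k, b₁ * l⁆ = ⁅a₁, b₁⁆ := by
      calc ⁅a₁ * k, b₁ * l⁆ = a₁ * (k * (b₁ * l)) * k⁻¹ * a₁⁻¹ * l⁻¹ * b₁⁻¹ := by
            simp only [commutatorElement_def]; group
        _ = a₁ * b₁ * (l * a₁⁻¹) * l⁻¹ * b₁⁻¹ := by rw [← hk' (b₁ * l)]; group
        _ = ⁅a₁, b₁⁆ := by rw [← hl' a₁⁻¹]; simp only [commutatorElement_def]; group
    rw [e]
    exact Subgroup.commutator_mem_commutator ha hb
  let q : C →* D := p.comp C.subtype
  have hq : Function.Surjective q := fun d => by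
    obtain ⟨c, hc', hce⟩ := Subgroup.mem_map.mp (hmap ▸ Subgroup.mem_top d)
    exact ⟨⟨c, hc'⟩, hce⟩
  let τ : C →* H94.HS.hsE := rho.comp q
  have hτ : IsStemExtension τ := by
    refine ⟨rho_surjective.comp hq, ?_, by rw [hperf]; exact le_top⟩
    intro k hk
    have hqk : q k ∈ Subgroup.center D := ker_central hk
    rw [Subgroup.mem_center_iff]
    intro g
    have h := eq_of_perfect hperf (MonoidHom.id C) (MulAut.conj k).toMonoidHom (fun u => by
      have hu : q (u * (k * u * k⁻¹)⁻¹) = 1 := by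
        simp only [map_mul, map_inv]
        rw [← Subgroup.mem_center_iff.mp hqk (q u), mul_inv_cancel_right, mul_inv_cancel]
      have := Subgroup.mem_center_iff.mp (hpk (MonoidHom.mem_ker.mpr hu))
      exact Subgroup.mem_center_iff.mpr fun w => Subtype.ext (this w.1))
    have := DFunLike.congr_fun h g
    exact eq_mul_inv_iff_mul_eq.mp this
  obtain ⟨f, hf⟩ := H94.HS.exists_surjective_two τ hτ
  have hle : Nat.card τ.ker ≤ 2 := by
    have h := Nat.card_le_card_of_surjective f hf
    rwa [Nat.card_congr Multiplicative.toAdd, Nat.card_zmod] at h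
  let r : τ.ker →* rho.ker := (q.comp τ.ker.subtype).codRestrict rho.ker fun k => k.2
  have hr : Function.Surjective r := fun d => by
    obtain ⟨u, hu⟩ := hq d.1
    exact ⟨⟨u, show rho (q u) = 1 from hu ▸ d.2⟩, Subtype.ext hu⟩
  have hrb : Function.Bijective r :=
    (Nat.bijective_iff_surjective_and_card r).mpr
      ⟨hr, le_antisymm (card_ker.symm ▸ hle) (Nat.card_le_card_of_surjective r hr)⟩
  have hqi : Function.Injective q := by
    rw [injective_iff_map_eq_one]
    intro k hk
    have hkm : k ∈ τ.ker := by rw [MonoidHom.mem_ker, MonoidHom.comp_apply, hk, map_one]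
    have := hrb.1 (a₁ := ⟨k, hkm⟩) (a₂ := 1) (Subtype.ext (by rw [map_one]; exact hk))
    exact congrArg Subtype.val this
  let e : C ≃* D := MulEquiv.ofBijective q ⟨hqi, hq⟩
  refine ⟨((MonoidHom.fst Γ D).comp (Δ.subtype.comp C.subtype)).comp e.symm.toMonoidHom,
    fun d => ?_⟩
  have h1 : ((e.symm d).1.1).2 = d := e.apply_symm_apply d
  conv_rhs => rw [← h1]
  exact (e.symm d).1.2

end Cfsg.Agent.H59.HNMult
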